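import Groth.Agent.H02CA.Brown.SmallCompact
import Mathlib.CategoryTheory.Linear.Yoneda
import Mathlib.CategoryTheory.Triangulated.Opposite.Functor
import Mathlib.Algebra.Category.ModuleCat.Basic
import Mathlib.RingTheory.Artinian.Module
import Mathlib.LinearAlgebra.FiniteDimensional.Basic
import Mathlib.Order.Zorn

/-!
# Representability of cohomological functors with finite-dimensional values on compact objects
-/

universe w v u

open CategoryTheory CategoryTheory.Limits CategoryTheory.Pretriangulated Opposite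
  CategoryTheory.Pretriangulated.Opposite

namespace Groth.Agent.H02CA.Brown

set_option linter.unusedSectionVars false

variable {k : Type w} [Field k]
variable {D : Type u} [Category.{v} D] [Preadditive D] [HasZeroObject D] [HasShift D ℤ]
  [∀ n : ℤ, (shiftFunctor D n).Additive] [Pretriangulated D] [IsTriangulated D]
  [HasCoproducts.{v} D]

lemma mem_chain_sSup {α : Type*} {A : α → Type*} [∀ a, AddGroup (A a)]
    {C : Set (∀ a, AddSubgroup (A a))} (hne : C.Nonempty) (hch : IsChain (· ≤ ·) C) (j : α)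
    (z : A j) : z ∈ sSup ((fun Γ => Γ j) '' C) ↔ ∃ Γ ∈ C, z ∈ Γ j := by
  have dir : DirectedOn (· ≤ ·) ((fun Γ : ∀ a, AddSubgroup (A a) => Γ j) '' C) := by
    rintro _ ⟨a, ha, rfl⟩ _ ⟨b, hb, rfl⟩
    rcases hch.total ha hb with h | h
    · exact ⟨_, ⟨b, hb, rfl⟩, h j, le_rfl⟩
    · exact ⟨_, ⟨a, ha, rfl⟩, le_rfl, h j⟩
  rw [AddSubgroup.mem_sSup_of_directedOn (hne.image _) dir]
  simp

variable (D) in
/-- Compact objects. -/
abbrev Cp : Type u := ObjectProperty.FullSubcategory (fun K : D => CohDer.IsCompactObject K)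

variable (H : (Cp D)ᵒᵖ ⥤ ModuleCat.{v} k) [H.Additive]

/-- Pullback of an element. -/
abbrev hm {K L : Cp D} (f : K ⟶ L) (x : H.obj (op L)) : H.obj (op K) := H.map f.op x

omit [H.Additive] in
lemma hm_comp {K L M : Cp D} (f : K ⟶ L) (g : L ⟶ M) (x : H.obj (op M)) :
    hm H (f ≫ g) x = hm H f (hm H g x) := by simp [hm]

omit [H.Additive] in
lemma hm_id {K : Cp D} (x : H.obj (op K)) : hm H (𝟙 K) x = x := by simp [hm]

lemma hm_add {K L : Cp D} (f g : K ⟶ L) (x : H.obj (op L)) :
    hm H (f + g) x = hm H f x + hm H g x := by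
  simp [hm, op_add, H.map_add]

lemma hm_zero {K L : Cp D} (x : H.obj (op L)) : hm H (0 : K ⟶ L) x = 0 := by simp [hm]

variable {J : Type v} (c : J → Cp D) (cover : ∀ K : Cp D, ∃ j, Nonempty (c j ≅ K))

/-- Natural families of maps `Hom(K, X) → H(K)` on compact objects. -/
noncomputable def fam (X : D) : AddSubgroup (∀ j : J, ((c j).obj ⟶ X) →+ H.obj (op (c j))) where
  carrier := {η | ∀ (i j : J) (f : c i ⟶ c j) (u : (c j).obj ⟶ X),
    η i (f.hom ≫ u) = hm H f (η j u)}
  add_mem' {a b} ha hb i j f u := by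
    simp only [Pi.add_apply, AddMonoidHom.add_apply, ha i j f u, hb i j f u, hm, map_add]
  zero_mem' i j f u := by simp [hm]
  neg_mem' {a} ha i j f u := by
    simp only [Pi.neg_apply, AddMonoidHom.neg_apply, ha i j f u, hm, map_neg]

/-- Pullback of a family. -/
noncomputable def pull {X X' : D} (g : X' ⟶ X) : fam H c X →+ fam H c X' where
  toFun η := ⟨fun j => (η.1 j).comp (Preadditive.rightComp (c j).obj g), fun i j f u => by
    change η.1 i ((f.hom ≫ u) ≫ g) = hm H f (η.1 j (u ≫ g))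
    rw [Category.assoc]
    exact η.2 i j f _⟩
  map_zero' := by apply Subtype.ext; funext j; ext u; rfl
  map_add' η η' := by apply Subtype.ext; funext j; ext u; rfl

lemma pull_apply {X X' : D} (g : X' ⟶ X) (η : fam H c X) (j : J) (u : (c j).obj ⟶ X') :
    (pull H c g η).1 j u = η.1 j (u ≫ g) := rfl

/-- The contravariant functor of natural families. -/
noncomputable def G : Dᵒᵖ ⥤ AddCommGrpCat.{v} where
  obj X := AddCommGrpCat.of (fam H c X.unop)
  map g := AddCommGrpCat.ofHom (pull H c g.unop)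
  map_id X := by
    refine AddCommGrpCat.hom_ext (AddMonoidHom.ext fun η => Subtype.ext (funext fun j => ?_))
    ext u
    change η.1 j (u ≫ 𝟙 _) = η.1 j u
    rw [Category.comp_id]
  map_comp g g' := by
    refine AddCommGrpCat.hom_ext (AddMonoidHom.ext fun η => Subtype.ext (funext fun j => ?_))
    ext u
    change η.1 j (u ≫ g'.unop ≫ g.unop) = η.1 j ((u ≫ g'.unop) ≫ g.unop)
    rw [Category.assoc]

instance : (G H c).Additive where
  map_add {X Y g g'} := by
    ext η; apply Subtype.ext; funext j; ext u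
    change η.1 j (u ≫ (g.unop + g'.unop)) = η.1 j (u ≫ g.unop) + η.1 j (u ≫ g'.unop)
    rw [Preadditive.comp_add, map_add]

section Val

variable {X : D}
include cover

/-- The value of a family at any compact object. -/
noncomputable def val (η : fam H c X) (K : Cp D) (u : K.obj ⟶ X) : H.obj (op K) :=
  hm H (cover K).choose_spec.some.inv (η.1 _ ((cover K).choose_spec.some.hom.hom ≫ u))

lemma val_nat (η : fam H c X) {K' K : Cp D} (f : K' ⟶ K) (u : K.obj ⟶ X) :
    val H c cover η K' (f.hom ≫ u) = hm H f (val H c cover η K u) := by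
  let e := (cover K).choose_spec.some
  let e' := (cover K').choose_spec.some
  change hm H e'.inv (η.1 _ (e'.hom.hom ≫ f.hom ≫ u)) = hm H f (hm H e.inv (η.1 _ (e.hom.hom ≫ u)))
  have h := η.2 _ _ (e'.hom ≫ f ≫ e.inv) (e.hom.hom ≫ u)
  have he : (e'.hom ≫ f ≫ e.inv).hom ≫ e.hom.hom ≫ u = e'.hom.hom ≫ f.hom ≫ u := by
    have : e.inv.hom ≫ e.hom.hom = 𝟙 _ := by
      rw [← ObjectProperty.FullSubcategory.comp_hom, e.inv_hom_id]; rfl
    simp only [ObjectProperty.FullSubcategory.comp_hom, Category.assoc, reassoc_of% this]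
  rw [he] at h
  rw [h, ← hm_comp, ← hm_comp, e'.inv_hom_id_assoc]

lemma val_at (η : fam H c X) (j : J) (u : (c j).obj ⟶ X) :
    val H c cover η (c j) u = η.1 j u := by
  let e := (cover (c j)).choose_spec.some
  change hm H e.inv (η.1 _ (e.hom.hom ≫ u)) = η.1 j u
  rw [η.2 _ _ e.hom u, ← hm_comp, e.inv_hom_id, hm_id]

end Val

section Extend

variable {X : D}

/-- A coherent graph of a partially defined family. -/
structure Good (Γ : ∀ j : J, AddSubgroup (((c j).obj ⟶ X) × H.obj (op (c j)))) : Prop where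
  stable : ∀ (i j : J) (f : c i ⟶ c j) u h, (u, h) ∈ Γ j → (f.hom ≫ u, hm H f h) ∈ Γ i
  func : ∀ (j : J) (h : H.obj (op (c j))), ((0 : (c j).obj ⟶ X), h) ∈ Γ j → h = 0

variable (hcoh : ∀ T ∈ distTriang D, ∀ (h₁ : CohDer.IsCompactObject T.obj₁)
      (h₂ : CohDer.IsCompactObject T.obj₂) (h₃ : CohDer.IsCompactObject T.obj₃)
      (y : H.obj (op ⟨T.obj₂, h₂⟩)),
      H.map (ObjectProperty.homMk T.mor₁ : (⟨T.obj₁, h₁⟩ : ObjectProperty.FullSubcategory
          (fun K : D => CohDer.IsCompactObject K)) ⟶ ⟨T.obj₂, h₂⟩).op y = 0 →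
        ∃ z : H.obj (op ⟨T.obj₃, h₃⟩),
          H.map (ObjectProperty.homMk T.mor₂ : (⟨T.obj₂, h₂⟩ : ObjectProperty.FullSubcategory
            (fun K : D => CohDer.IsCompactObject K)) ⟶ ⟨T.obj₃, h₃⟩).op z = y)
  (hfin : ∀ K, Module.Finite k (H.obj K))
include cover hcoh

lemma exists_one {Γ : ∀ j : J, AddSubgroup (((c j).obj ⟶ X) × H.obj (op (c j)))}
    (hΓ : Good H c Γ) {i j : J} (u : (c j).obj ⟶ X) (f : c i ⟶ c j) (x : H.obj (op (c i)))
    (hx : (f.hom ≫ u, x) ∈ Γ i) : ∃ h, hm H f h = x := by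
  obtain ⟨Z, g, δ, hT⟩ := distinguished_cocone_triangle₁ f.hom
  have hZ : CohDer.IsCompactObject Z :=
    Groth.Agent.H16Derived.Compact.ext₂ (inv_rot_of_distTriang _ hT)
      (Groth.Agent.H16Derived.Compact.of_shift (c j).property (-1)) (c i).property
  let gm : (⟨Z, hZ⟩ : Cp D) ⟶ c i := ObjectProperty.homMk g
  obtain ⟨l, ⟨e⟩⟩ := cover ⟨Z, hZ⟩
  have h0 : hm H gm x = 0 := by
    have h := hΓ.stable _ _ (e.hom ≫ gm) _ _ hx
    have hz : (e.hom ≫ gm).hom ≫ f.hom ≫ u = 0 := by
      have h1 : g ≫ f.hom = 0 := comp_distTriang_mor_zero₁₂ _ hT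
      simp [gm, reassoc_of% h1]
    rw [hz] at h
    have := hΓ.func _ _ h
    rw [hm_comp] at this
    calc hm H gm x = hm H e.inv (hm H e.hom (hm H gm x)) := by
          rw [← hm_comp H e.inv, e.inv_hom_id, hm_id]
      _ = 0 := by rw [this]; exact map_zero _
  exact hcoh _ hT hZ (c i).property (c j).property x h0

/-- A condition imposed by `Γ` on the value at `u`. -/
abbrev Cond (Γ : ∀ j : J, AddSubgroup (((c j).obj ⟶ X) × H.obj (op (c j)))) {j : J}
    (u : (c j).obj ⟶ X) : Type _ :=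
  Σ i : J, {p : (c i ⟶ c j) × H.obj (op (c i)) // (p.1.hom ≫ u, p.2) ∈ Γ i}

lemma exists_dom {Γ : ∀ j : J, AddSubgroup (((c j).obj ⟶ X) × H.obj (op (c j)))}
    (hΓ : Good H c Γ) {j : J} (u : (c j).obj ⟶ X) (s : Finset (Cond H c Γ u)) :
    ∃ (q : Cond H c Γ u), ∀ d ∈ s, ∃ a : c d.1 ⟶ c q.1, a ≫ q.2.1.1 = d.2.1.1 ∧
      hm H a q.2.1.2 = d.2.1.2 := by
  classical
  induction s using Finset.induction_on with
  | empty => exact ⟨⟨j, ⟨(0, 0), by simp [Prod.mk_zero_zero]⟩⟩, fun d hd => by simp at hd⟩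
  | @insert d s _ ih =>
    obtain ⟨⟨i, ⟨f, x⟩, hx⟩, hq⟩ := ih
    obtain ⟨i', ⟨f', x'⟩, hx'⟩ := d
    have hAB : CohDer.IsCompactObject ((c i).obj ⊞ (c i').obj) :=
      Groth.Agent.H16Derived.Compact.ext₂ (binaryBiproductTriangle_distinguished _ _)
        (c i).property (c i').property
    let S : Cp D := ⟨(c i).obj ⊞ (c i').obj, hAB⟩
    obtain ⟨l, ⟨e⟩⟩ := cover S
    let p : c l ⟶ c i := e.hom ≫ ObjectProperty.homMk biprod.fst
    let p' : c l ⟶ c i' := e.hom ≫ ObjectProperty.homMk biprod.snd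
    let a : c i ⟶ c l := (ObjectProperty.homMk biprod.inl : c i ⟶ S) ≫ e.inv
    let a' : c i' ⟶ c l := (ObjectProperty.homMk biprod.inr : c i' ⟶ S) ≫ e.inv
    have hap : a ≫ p = 𝟙 _ := by
      simp only [a, p, Category.assoc, Iso.inv_hom_id_assoc]; ext; exact biprod.inl_fst
    have hap' : a ≫ p' = 0 := by
      simp only [a, p', Category.assoc, Iso.inv_hom_id_assoc]; ext; exact biprod.inl_snd
    have ha'p : a' ≫ p = 0 := by
      simp only [a', p, Category.assoc, Iso.inv_hom_id_assoc]; ext; exact biprod.inr_fst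
    have ha'p' : a' ≫ p' = 𝟙 _ := by
      simp only [a', p', Category.assoc, Iso.inv_hom_id_assoc]; ext; exact biprod.inr_snd
    refine ⟨⟨l, ⟨(p ≫ f + p' ≫ f', hm H p x + hm H p' x'), ?_⟩⟩, ?_⟩
    · have h := (Γ l).add_mem (hΓ.stable _ _ p _ _ hx) (hΓ.stable _ _ p' _ _ hx')
      have he : (p ≫ f + p' ≫ f').hom ≫ u = p.hom ≫ f.hom ≫ u + p'.hom ≫ f'.hom ≫ u := by
        rw [← Category.assoc, ← Category.assoc, ← Preadditive.add_comp]; rfl
      rw [he]; exact h
    · intro d hd
      rcases Finset.mem_insert.1 hd with rfl | hd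
      · exact ⟨a', by simp [Preadditive.comp_add, reassoc_of% ha'p, reassoc_of% ha'p'], by
          change hm H a' (hm H p x + hm H p' x') = x'
          simp only [hm, map_add]
          change hm H a' (hm H p x) + hm H a' (hm H p' x') = x'
          rw [← hm_comp, ← hm_comp, ha'p, ha'p', hm_zero, hm_id, zero_add]⟩
      · obtain ⟨b, hb, hb'⟩ := hq d hd
        refine ⟨b ≫ a, ?_, ?_⟩
        · simp [Preadditive.comp_add, reassoc_of% hap, reassoc_of% hap', hb]
        · change hm H (b ≫ a) (hm H p x + hm H p' x') = d.2.1.2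
          simp only [hm, map_add]
          change hm H (b ≫ a) (hm H p x) + hm H (b ≫ a) (hm H p' x') = d.2.1.2
          rw [← hm_comp, ← hm_comp, Category.assoc b a p, Category.assoc b a p', hap, hap', comp_zero,
            hm_zero, add_zero, Category.comp_id, hb']

include hfin in
lemma exists_value {Γ : ∀ j : J, AddSubgroup (((c j).obj ⟶ X) × H.obj (op (c j)))}
    (hΓ : Good H c Γ) {j : J} (u : (c j).obj ⟶ X) :
    ∃ h : H.obj (op (c j)), ∀ (i : J) (f : c i ⟶ c j) (x : H.obj (op (c i))),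
      (f.hom ≫ u, x) ∈ Γ i → hm H f h = x := by
  classical
  haveI := hfin (op (c j))
  let W : Finset (Cond H c Γ u) → Submodule k (H.obj (op (c j))) := fun s =>
    s.inf fun d => LinearMap.ker (H.map d.2.1.1.op).hom
  have solve : ∀ s : Finset (Cond H c Γ u), ∃ h, ∀ d ∈ s, hm H d.2.1.1 h = d.2.1.2 := by
    intro s
    obtain ⟨q, hq⟩ := exists_dom H c cover hcoh hΓ u s
    obtain ⟨h, hh⟩ := exists_one H c cover hcoh hΓ u q.2.1.1 q.2.1.2 q.2.2
    refine ⟨h, fun d hd => ?_⟩
    obtain ⟨a, ha, ha'⟩ := hq d hd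
    rw [← ha, hm_comp, hh, ha']
  obtain ⟨-, ⟨s, rfl⟩, hmin⟩ :=
    IsArtinian.set_has_minimal (Set.range W) (Set.range_nonempty W)
  obtain ⟨h, hh⟩ := solve s
  refine ⟨h, fun i f x hx => ?_⟩
  let d : Cond H c Γ u := ⟨i, ⟨(f, x), hx⟩⟩
  obtain ⟨h', hh'⟩ := solve (insert d s)
  have hmem : h' - h ∈ W s := by
    simp only [W, Submodule.mem_finsetInf]
    intro d' hd'
    rw [LinearMap.mem_ker, map_sub, sub_eq_zero]
    exact (hh' d' (Finset.mem_insert_of_mem hd')).trans (hh d' hd').symm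
  have hle : W (insert d s) ≤ W s := Finset.inf_mono (Finset.subset_insert _ _)
  have heq : W (insert d s) = W s := eq_of_le_of_not_lt hle (hmin _ ⟨_, rfl⟩)
  rw [← heq] at hmem
  simp only [W, Submodule.mem_finsetInf] at hmem
  have := hmem d (Finset.mem_insert_self _ _)
  rw [LinearMap.mem_ker, map_sub, sub_eq_zero] at this
  exact this.symm.trans (hh' d (Finset.mem_insert_self _ _))

include hfin in
/-- Any coherent graph extends to a family. -/
lemma exists_extend {Γ₀ : ∀ j : J, AddSubgroup (((c j).obj ⟶ X) × H.obj (op (c j)))}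
    (hΓ₀ : Good H c Γ₀) : ∃ ζ : fam H c X, ∀ j u h, (u, h) ∈ Γ₀ j → ζ.1 j u = h := by
  obtain ⟨Γ, hle, hΓ⟩ := zorn_le_nonempty₀ {Γ | Good H c (X := X) Γ} (fun C hC hch y hy => by
    have hmem := mem_chain_sSup (A := fun j => ((c j).obj ⟶ X) × H.obj (op (c j))) ⟨y, hy⟩ hch
    refine ⟨fun j => sSup ((fun Γ => Γ j) '' C), ⟨fun i j f u h hh => ?_, fun j h hh => ?_⟩,
      fun z hz j => le_sSup ⟨z, hz, rfl⟩⟩
    · obtain ⟨Γ, hΓC, hu⟩ := (hmem _ _).1 hh
      exact (hmem _ _).2 ⟨Γ, hΓC, (hC hΓC).stable i j f u h hu⟩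
    · obtain ⟨Γ, hΓC, hu⟩ := (hmem _ _).1 hh
      exact (hC hΓC).func j h hu) Γ₀ hΓ₀
  have good : Good H c Γ := hΓ.1
  have total : ∀ (j : J) (u : (c j).obj ⟶ X), ∃ h, (u, h) ∈ Γ j := by
    intro j u
    obtain ⟨h, hh⟩ := exists_value H c cover hcoh hfin good u
    let φ : ∀ i : J, (c i ⟶ c j) →+ ((c i).obj ⟶ X) × H.obj (op (c i)) := fun i =>
      AddMonoidHom.mk' (fun f => (f.hom ≫ u, hm H f h)) fun f g => by
        refine Prod.ext ?_ (hm_add H f g h)
        change (f.hom + g.hom) ≫ u = _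
        exact Preadditive.add_comp _ _ _ _ _ _
    let Γ' : ∀ i : J, AddSubgroup (((c i).obj ⟶ X) × H.obj (op (c i))) :=
      fun i => Γ i ⊔ (φ i).range
    have hΓ' : Good H c Γ' := by
      refine ⟨fun i i' g v x hv => ?_, fun i x hx => ?_⟩
      · obtain ⟨⟨v₁, x₁⟩, h₁, -, ⟨f, rfl⟩, hsum⟩ := AddSubgroup.mem_sup.1 hv
        obtain ⟨rfl, rfl⟩ := Prod.mk.injEq _ _ _ _ ▸ hsum
        refine AddSubgroup.mem_sup.2 ⟨_, good.stable i i' g v₁ x₁ h₁, _, ⟨g ≫ f, rfl⟩, ?_⟩
        simp [φ, Preadditive.comp_add, hm]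
      · obtain ⟨⟨v₁, x₁⟩, h₁, -, ⟨f, rfl⟩, hsum⟩ := AddSubgroup.mem_sup.1 hx
        obtain ⟨hv, rfl⟩ := Prod.mk.injEq _ _ _ _ ▸ hsum
        have hv' : f.hom ≫ u = -v₁ := eq_neg_of_add_eq_zero_right hv
        have h' : (f.hom ≫ u, -x₁) ∈ Γ i := by
          rw [hv']; exact (Γ i).neg_mem h₁
        change x₁ + hm H f h = 0
        rw [hh i f _ h', add_neg_cancel]
    have := hΓ.2 (y := Γ') hΓ' (fun i => le_sup_left) j
    exact ⟨h, this (AddSubgroup.mem_sup_right ⟨𝟙 _, by simp [φ, hm_id]⟩)⟩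
  choose v hv using total
  have uniq : ∀ (j : J) u h, (u, h) ∈ Γ j → v j u = h := fun j u h hh => by
    have h1 := good.func j (v j u - h) (by simpa using (Γ j).sub_mem (hv j u) hh)
    exact sub_eq_zero.1 h1
  refine ⟨⟨fun j => AddMonoidHom.mk' (v j) fun a b =>
    uniq j _ _ ((Γ j).add_mem (hv j a) (hv j b)), fun i j f u => ?_⟩, fun j u h hh => ?_⟩
  · exact uniq i _ _ (good.stable i j f u _ (hv j u))
  · exact uniq j u h (hle j hh)

include hfin in
lemma isHomological : (G H c).IsHomological where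
  exact T hT := by
    rw [ShortComplex.ab_exact_iff]
    intro (η : fam H c T.obj₂.unop) (hη : pull H c T.mor₂.unop η = 0)
    have hT' := unop_distinguished T hT
    let Γ₀ : ∀ j : J, AddSubgroup (((c j).obj ⟶ T.obj₁.unop) × H.obj (op (c j))) := fun j =>
      ((Preadditive.rightComp (c j).obj T.mor₁.unop).prod (η.1 j)).range
    have hΓ₀ : Good H c Γ₀ := by
      refine ⟨fun i j f u h hu => ?_, fun j h hu => ?_⟩
      · obtain ⟨w', hw⟩ := hu
        obtain ⟨rfl, rfl⟩ := Prod.mk.injEq _ _ _ _ ▸ hw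
        exact ⟨f.hom ≫ w', Prod.ext (Category.assoc _ _ _) (η.2 i j f w')⟩
      · obtain ⟨w', hw⟩ := hu
        obtain ⟨hw₁, rfl⟩ := Prod.mk.injEq _ _ _ _ ▸ hw
        obtain ⟨z, hz⟩ := Triangle.coyoneda_exact₂ _ hT' w' hw₁
        change η.1 j w' = 0
        rw [hz]
        have := congrArg (fun t : fam H c T.obj₃.unop => t.1 j z) hη
        exact this
    obtain ⟨ζ, hζ⟩ := exists_extend H c cover hcoh hfin hΓ₀
    refine ⟨ζ, ?_⟩
    apply Subtype.ext; funext j; ext w'
    exact hζ j _ _ ⟨w', rfl⟩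

end Extend

section Products

lemma bijective_pull_sigma {κ : Type v} (Y : κ → D) :
    Function.Bijective (fun η : fam H c (∐ Y) => fun i => pull H c (Sigma.ι Y i) η) := by
  classical
  let e : ∀ j : J, DirectSum κ (fun i => (c j).obj ⟶ Y i) ≃+ ((c j).obj ⟶ ∐ Y) := fun j =>
    AddEquiv.ofBijective (CohDer.homSumToHomCoprod (c j).obj Y) ((c j).property κ Y)
  have he : ∀ j i w', e j (DirectSum.of _ i w') = w' ≫ Sigma.ι Y i := fun j i w' => by
    simp [e, CohDer.homSumToHomCoprod, DirectSum.toAddMonoid_of, Preadditive.rightComp]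
  constructor
  · intro η η' h
    apply Subtype.ext; funext j; ext u
    obtain ⟨b, rfl⟩ := (e j).surjective u
    induction b using DirectSum.induction_on with
    | zero => simp
    | of i w' =>
      rw [he]
      exact congrArg (fun t : ∀ i, fam H c (Y i) => (t i).1 j w') h
    | add a b ha hb => simp only [map_add, ha, hb]
  · intro ηs
    let v : ∀ j, ((c j).obj ⟶ ∐ Y) →+ H.obj (op (c j)) := fun j =>
      (DirectSum.toAddMonoid fun i => (ηs i).1 j).comp (e j).symm.toAddMonoidHom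
    have hv : ∀ j i w', v j (w' ≫ Sigma.ι Y i) = (ηs i).1 j w' := fun j i w' => by
      rw [← he]
      simp [v]
    refine ⟨⟨v, fun i j f u => ?_⟩, ?_⟩
    · obtain ⟨b, rfl⟩ := (e j).surjective u
      induction b using DirectSum.induction_on with
      | zero => simp [hm]
      | of l w' => rw [he, ← Category.assoc, hv, hv]; exact (ηs l).2 i j f w'
      | add a b ha hb => simp only [map_add, Preadditive.comp_add, ha, hb, hm]
    · funext i; apply Subtype.ext; funext j; ext w'
      exact hv j i w'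

lemma preservesLimitsOfShape (κ : Type v) : PreservesLimitsOfShape (Discrete κ) (G H c) := by
  constructor
  intro K
  let Y : κ → D := fun i => (K.obj ⟨i⟩).unop
  suffices PreservesLimit (Discrete.functor fun i => op (Y i)) (G H c) from
    preservesLimit_of_iso_diagram (G H c)
      (Discrete.natIso fun i => Iso.refl _ : Discrete.functor (fun i => op (Y i)) ≅ K)
  refine preservesLimit_of_preserves_limit_cone (Cofan.IsColimit.op (coproductIsCoproduct Y)) ?_
  refine (isLimitMapConeFanMkEquiv (G H c) _ _).symm ?_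
  let E := AddEquiv.ofBijective
    (AddMonoidHom.mk' (fun η : fam H c (∐ Y) => fun i => pull H c (Sigma.ι Y i) η)
      fun a b => funext fun i => map_add _ a b) (bijective_pull_sigma H c Y)
  refine mkFanLimit _ (fun s => AddCommGrpCat.ofHom
    (E.symm.toAddMonoidHom.comp (AddMonoidHom.mk' (fun z i => s.proj i z)
      fun a b => funext fun i => map_add _ a b))) (fun s i => ?_) fun s m hm' => ?_
  · ext z
    exact congrFun (E.apply_symm_apply (fun i => s.proj i z)) i
  · ext z
    apply E.injective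
    refine Eq.trans ?_ (E.apply_symm_apply _).symm
    funext i
    exact ConcreteCategory.congr_hom (hm' i) z

end Products

/-- A cohomological functor on compact objects with finite-dimensional values is representable. -/
theorem exists_representing [Linear k D] (hD : CohDer.IsCompactlyGenerated D)
    (hlin : ∀ (X Y : Cp D) (r : k) (f : X ⟶ Y), H.map (r • f).op = r • H.map f.op)
    (hcoh : ∀ T ∈ distTriang D, ∀ (h₁ : CohDer.IsCompactObject T.obj₁)
      (h₂ : CohDer.IsCompactObject T.obj₂) (h₃ : CohDer.IsCompactObject T.obj₃)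
      (y : H.obj (op ⟨T.obj₂, h₂⟩)),
      H.map (ObjectProperty.homMk T.mor₁ : (⟨T.obj₁, h₁⟩ : ObjectProperty.FullSubcategory
          (fun K : D => CohDer.IsCompactObject K)) ⟶ ⟨T.obj₂, h₂⟩).op y = 0 →
        ∃ z : H.obj (op ⟨T.obj₃, h₃⟩),
          H.map (ObjectProperty.homMk T.mor₂ : (⟨T.obj₂, h₂⟩ : ObjectProperty.FullSubcategory
            (fun K : D => CohDer.IsCompactObject K)) ⟶ ⟨T.obj₃, h₃⟩).op z = y)
    (hfin : ∀ K, Module.Finite k (H.obj K)) :
    ∃ Y : D, Nonempty (H ≅ (ObjectProperty.ι _).op ⋙ (linearYoneda k D).obj Y) := by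
  haveI := essentiallySmall_compact hD
  obtain ⟨Q, hQs, hQ, hQ'⟩ :=
    ObjectProperty.EssentiallySmall.exists_small_le.{v} (fun K : D => CohDer.IsCompactObject K)
  let J := Shrink.{v} (Subtype Q)
  let c : J → Cp D := fun j => ⟨((equivShrink _).symm j).1, hQ _ ((equivShrink _).symm j).2⟩
  have cover : ∀ K : Cp D, ∃ j, Nonempty (c j ≅ K) := by
    intro K
    obtain ⟨Y, hY, ⟨e⟩⟩ := hQ' K.obj K.property
    refine ⟨equivShrink _ ⟨Y, hY⟩, ⟨ObjectProperty.isoMk _ (eqToIso ?_ ≪≫ e.symm)⟩⟩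
    simp [c]
  haveI := isHomological H c cover hcoh hfin
  haveI := preservesLimitsOfShape H c
  obtain ⟨ι, E, hE, hg⟩ := hD
  haveI := Groth.Agent.H16Derived.Brown.hasColimitsOfShape_nat (D := D)
  obtain ⟨Y, ⟨R⟩⟩ := Groth.Agent.H16Derived.Brown.isRepresentable (G H c)
    (Groth.Agent.H16Derived.Brown.gen_of_compact E hE hg)
  let Φ : fam H c Y := R.homEquiv (𝟙 Y)
  have hR : ∀ {X : D} (u : X ⟶ Y), R.homEquiv u = pull H c u Φ := fun u => R.homEquiv_eq u
  let φ : ∀ K : Cp D, (K.obj ⟶ Y) →ₗ[k] H.obj (op K) := fun K =>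
    { toFun := fun u => val H c cover Φ K u
      map_add' := fun u u' => by simp [val, hm]
      map_smul' := fun r u => by
        have h := val_nat H c cover Φ (r • 𝟙 K) u
        simp only [hm, hlin, op_id, H.map_id] at h
        have he : (r • 𝟙 K : K ⟶ K).hom ≫ u = r • u := by
          change (r • 𝟙 K.obj) ≫ u = r • u
          rw [Linear.smul_comp, Category.id_comp]
        rw [he] at h
        exact h }
  have hφ : ∀ K, Function.Bijective (φ K) := by
    intro K
    constructor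
    · intro u u' h
      refine (R.homEquiv (X := K.obj)).injective ?_
      rw [hR, hR]
      apply Subtype.ext; funext j; ext a
      change Φ.1 j (a ≫ u) = Φ.1 j (a ≫ u')
      have h1 := val_nat H c cover Φ (ObjectProperty.homMk a : c j ⟶ K) u
      have h2 := val_nat H c cover Φ (ObjectProperty.homMk a : c j ⟶ K) u'
      change φ K u = φ K u' at h
      change val H c cover Φ K u = val H c cover Φ K u' at h
      rw [h, ← h2] at h1
      rwa [val_at, val_at] at h1
    · intro x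
      let η : fam H c K.obj := ⟨fun j => AddMonoidHom.mk'
        (fun a => hm H (ObjectProperty.homMk a : c j ⟶ K) x) (fun a b => by
          rw [← hm_add]; rfl), fun i j f a => by
        change hm H (ObjectProperty.homMk (f.hom ≫ a) : c i ⟶ K) x =
          hm H f (hm H (ObjectProperty.homMk a : c j ⟶ K) x)
        rw [← hm_comp]; rfl⟩
      obtain ⟨u, hu⟩ := (R.homEquiv (X := K.obj)).surjective η
      refine ⟨u, ?_⟩
      rw [hR] at hu
      obtain ⟨j, ⟨e⟩⟩ := cover K
      have h1 := val_nat H c cover Φ e.hom u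
      rw [val_at] at h1
      have h2 : Φ.1 j (e.hom.hom ≫ u) = hm H e.hom x :=
        congrArg (fun t : fam H c K.obj => t.1 j e.hom.hom) hu
      change val H c cover Φ K u = x
      calc val H c cover Φ K u = hm H e.inv (hm H e.hom (val H c cover Φ K u)) := by
            rw [← hm_comp, e.inv_hom_id, hm_id]
        _ = hm H e.inv (hm H e.hom x) := by rw [← h1, h2]
        _ = x := by rw [← hm_comp, e.inv_hom_id, hm_id]
  refine ⟨Y, ⟨(NatIso.ofComponents
    (fun K => (LinearEquiv.ofBijective (φ K.unop) (hφ K.unop)).toModuleIso) fun {K K'} f => ?_).symm⟩⟩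
  ext u
  exact val_nat H c cover Φ f.unop u

end Groth.Agent.H02CA.Brown
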