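import Groth.Agent.H16Derived.Hocolim
import Groth.Agent.H16Derived.BrownApp
import Groth.Agent.S1076
import Mathlib.CategoryTheory.ObjectProperty.Small
import Mathlib.CategoryTheory.ObjectProperty.Retract
import Mathlib.CategoryTheory.ObjectProperty.LimitsClosure

/-!
# Compact objects of a compactly generated triangulated category form an essentially small category
-/

universe v u

open CategoryTheory CategoryTheory.Limits CategoryTheory.Pretriangulated
open scoped ZeroObject

namespace Groth.Agent.H02CA.Brown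

variable {D : Type u} [Category.{v} D] [Preadditive D] [HasZeroObject D] [HasShift D ℤ]
  [∀ n : ℤ, (shiftFunctor D n).Additive] [Pretriangulated D]

lemma essentiallySmall_shiftClosure (P : ObjectProperty D) [ObjectProperty.EssentiallySmall.{v} P] :
    ObjectProperty.EssentiallySmall.{v} (P.shiftClosure ℤ) := by
  obtain ⟨Q, _, -, hQ⟩ := ObjectProperty.EssentiallySmall.exists_small_le.{v} P
  refine ⟨⟨.ofObj fun p : Subtype Q × ℤ => (shiftFunctor D p.2).obj p.1.1, inferInstance, ?_⟩⟩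
  rintro X ⟨Y, a, e, hY⟩
  obtain ⟨Y', hY', ⟨i⟩⟩ := hQ Y hY
  exact ⟨_, ⟨(⟨Y', hY'⟩, a)⟩, ⟨e ≪≫ (shiftFunctor D a).mapIso i⟩⟩

lemma essentiallySmall_extensionProduct (P Q : ObjectProperty D)
    [ObjectProperty.EssentiallySmall.{v} P] [ObjectProperty.EssentiallySmall.{v} Q] :
    ObjectProperty.EssentiallySmall.{v} (ObjectProperty.extensionProduct P Q) := by
  obtain ⟨P', _, -, hP⟩ := ObjectProperty.EssentiallySmall.exists_small_le.{v} P
  obtain ⟨Q', _, -, hQ⟩ := ObjectProperty.EssentiallySmall.exists_small_le.{v} Q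
  let α := Σ (Z : Subtype Q') (Y : Subtype P'), (Z.1 ⟶ (shiftFunctor D (1 : ℤ)).obj Y.1)
  choose M f g hT using fun a : α => distinguished_cocone_triangle₂ a.2.2
  refine ⟨⟨.ofObj M, inferInstance, ?_⟩⟩
  rintro X ⟨Y, Z, f₀, g₀, h₀, hT₀, hY, hZ⟩
  obtain ⟨Y', hY', ⟨i⟩⟩ := hP Y hY
  obtain ⟨Z', hZ', ⟨j⟩⟩ := hQ Z hZ
  let a : α := ⟨⟨Z', hZ'⟩, ⟨Y', hY'⟩, j.inv ≫ h₀ ≫ (shiftFunctor D (1 : ℤ)).map i.hom⟩
  let e := isoTriangleOfIso₁₃ _ _ hT₀ (hT a) i j (by
    change h₀ ≫ (shiftFunctor D (1 : ℤ)).map i.hom = j.hom ≫ a.2.2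
    exact (Iso.hom_inv_id_assoc j _).symm)
  exact ⟨_, ⟨a⟩, ⟨Triangle.π₂.mapIso e⟩⟩

lemma essentiallySmall_iter (P : ObjectProperty D) [ObjectProperty.EssentiallySmall.{v} P] (n : ℕ) :
    ObjectProperty.EssentiallySmall.{v} (P.extensionProductIter n) := by
  induction n with
  | zero => assumption
  | succ n ih =>
    rw [ObjectProperty.extensionProductIter_succ]
    exact essentiallySmall_extensionProduct P _

lemma essentiallySmall_triangEnvelope (P : ObjectProperty D)
    [ObjectProperty.EssentiallySmall.{v} P] : ObjectProperty.EssentiallySmall.{v} P.triangEnvelope := by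
  have := essentiallySmall_shiftClosure P
  have h : ∀ n : ℕ, ObjectProperty.EssentiallySmall.{v} (P.triangEnvelopeIter n) := fun n => by
    have := essentiallySmall_iter (P.shiftClosure ℤ).binaryProductsClosure.retractClosure n
    infer_instance
  have h' : ∀ n : ℕ, ∃ (Q : ObjectProperty D) (_ : ObjectProperty.Small.{v} Q),
      P.triangEnvelopeIter n ≤ Q.isoClosure := fun n => (h n).exists_small_le'
  choose Q hQ hle using h'
  refine ⟨⟨.ofObj fun p : Σ n : ℕ, Subtype (Q n) => p.2.1, inferInstance, ?_⟩⟩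
  intro X (hX : P.triangEnvelope X)
  obtain ⟨n, hn⟩ := (P.prop_triangEnvelope_iff X).1 hX
  obtain ⟨Y, hY, ⟨e⟩⟩ := hle n X hn
  exact ⟨Y, ObjectProperty.ofObj_apply (fun p : Σ n : ℕ, Subtype (Q n) => p.2.1) ⟨n, ⟨Y, hY⟩⟩, ⟨e⟩⟩

variable [IsTriangulated D] [HasCoproducts.{v} D]

/-- In a compactly generated category the compact objects are essentially small. -/
theorem essentiallySmall_compact (hD : CohDer.IsCompactlyGenerated D) :
    ObjectProperty.EssentiallySmall.{v} (fun K : D => CohDer.IsCompactObject K) := by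
  haveI := Groth.Agent.H16Derived.Brown.hasColimitsOfShape_nat (D := D)
  obtain ⟨ι₀, E₀, hE₀, hg₀⟩ := hD
  let ι := Option ι₀
  let E : ι → D := fun o => o.elim 0 E₀
  have hE : ∀ o, CohDer.IsCompactObject (E o) := by
    rintro (_ | i)
    · rw [Groth.Agent.H16Derived.Compact.isCompactObject_iff]
      exact fun κ Y α => ⟨∅, (isZero_zero D).eq_of_src _ _⟩
    · exact hE₀ i
  have hg : CohDer.Generates E := fun K hK => hg₀ K fun i n φ => hK (some i) n φ
  haveI : Nonempty ι := ⟨none⟩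
  have := essentiallySmall_triangEnvelope (ObjectProperty.ofObj E)
  refine ObjectProperty.EssentiallySmall.of_le (Q := (ObjectProperty.ofObj E).triangEnvelope) ?_
  intro X hX
  obtain ⟨K, f, i, hL, h0, hstep⟩ :=
    Groth.Agent.H16Derived.Hocolim.exists_presentation E hE hg X
  obtain ⟨n, a, ha⟩ := Groth.Agent.H16Derived.Hocolim.exists_lift hL hX (𝟙 X)
  obtain ⟨s, E', g, h, hE', hgh⟩ := Groth.Agent.S1076.result E hE K f h0 hstep X hX n a
  have hle := ObjectProperty.monotone_triangEnvelope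
    (show (fun Y : D => ∃ i ∈ s, Y = E i) ≤ ObjectProperty.ofObj E from
      fun Y ⟨j, _, hY⟩ => hY ▸ ⟨j⟩)
  exact ObjectProperty.prop_of_retract _
    (⟨g, h ≫ i n, by rw [← Category.assoc, hgh, ha]⟩ : Retract X E') (hle E' hE')

end Groth.Agent.H02CA.Brown
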